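import Cfsg.Agent.CosetEnum.Fi24.Simple
import Cfsg.Agent.CosetEnum.Fi24.Class
import Cfsg.Agent.Fi23Out54.Trans

/-!
Elements of the presented Fi24 are told apart on twelve points, one for the transposition of each
letter; the simple subgroup and the copy of Fi23 in it.
-/

set_option autoImplicit false
set_option maxRecDepth 8000

namespace CfsgLib.Fi24Out17

open CfsgLib.CosetEnum CfsgLib.CosetEnum.Fi24
open CfsgLib.CosetEnum.Fi24.Tab (npts runL lab cls)

/-- a word carrying `l` to a letter by conjugation, along the diagram -/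
def cjW : ℕ → List ℕ
  | 11 => [10, 11]
  | 0 => [11, 0, 10, 11]
  | 1 => [0, 1, 11, 0, 10, 11]
  | 2 => [1, 2, 0, 1, 11, 0, 10, 11]
  | 3 => [2, 3, 1, 2, 0, 1, 11, 0, 10, 11]
  | 4 => [3, 4, 2, 3, 1, 2, 0, 1, 11, 0, 10, 11]
  | 5 => [4, 5, 3, 4, 2, 3, 1, 2, 0, 1, 11, 0, 10, 11]
  | 6 => [5, 6, 4, 5, 3, 4, 2, 3, 1, 2, 0, 1, 11, 0, 10, 11]
  | 9 => [6, 9, 5, 6, 4, 5, 3, 4, 2, 3, 1, 2, 0, 1, 11, 0, 10, 11]
  | 7 => [3, 7, 2, 3, 1, 2, 0, 1, 11, 0, 10, 11]
  | 8 => [7, 8, 3, 7, 2, 3, 1, 2, 0, 1, 11, 0, 10, 11]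
  | _ => []

theorem cj_step {x y : ℕ} (hr : relW.contains [x, y, x, y, x, y] = true) {w : List ℕ}
    (hw : g12 x = gword g12 w * g12 10 * (gword g12 w)⁻¹) :
    g12 y = gword g12 (x :: y :: w) * g12 10 * (gword g12 (x :: y :: w))⁻¹ := by
  rw [gword_cons, gword_cons]
  calc g12 y = g12 x * g12 y * g12 x * (g12 x * g12 y)⁻¹ := by
        rw [eq_comm, mul_inv_eq_iff_eq_mul, mul_assoc, braid_letters hr]
    _ = g12 x * g12 y * (gword g12 w * g12 10 * (gword g12 w)⁻¹) * (g12 x * g12 y)⁻¹ := by rw [← hw]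
    _ = _ := by group

theorem g12_cj {x : ℕ} (hx : x < 12) :
    g12 x = gword g12 (cjW x) * g12 10 * (gword g12 (cjW x))⁻¹ := by
  have h10 : g12 10 = gword g12 [] * g12 10 * (gword g12 [])⁻¹ := by simp [gword_nil]
  have h11 := cj_step (y := 11) (by decide +kernel) h10
  have h0 := cj_step (y := 0) (by decide +kernel) h11
  have h1 := cj_step (y := 1) (by decide +kernel) h0
  have h2 := cj_step (y := 2) (by decide +kernel) h1
  have h3 := cj_step (y := 3) (by decide +kernel) h2
  have h4 := cj_step (y := 4) (by decide +kernel) h3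
  have h7 := cj_step (y := 7) (by decide +kernel) h3
  have h5 := cj_step (y := 5) (by decide +kernel) h4
  have h6 := cj_step (y := 6) (by decide +kernel) h5
  have h9 := cj_step (y := 9) (by decide +kernel) h6
  have h8 := cj_step (y := 8) (by decide +kernel) h7
  interval_cases x
  exacts [h0, h1, h2, h3, h4, h5, h6, h7, h8, h9, h10, h11]

theorem parity_gword {w : List ℕ} (hw : ∀ x ∈ w, x < 12) :
    parity (gword g12 w) = (-1 : ℤˣ) ^ w.length := by
  rw [gword_map, gword_congr _ (fun _ => (-1 : ℤˣ)) fun x hx => parity_g12 (hw x hx), gword,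
    List.map_const', List.prod_replicate]

/-- all letters of a word are below a bound, and its length is even -/
def evenW (n : ℕ) (w : List ℕ) : Bool := w.all (fun x => Nat.blt x n) && Nat.beq (w.length % 2) 0

theorem evenW_lt {n : ℕ} {w : List ℕ} (hw : evenW n w = true) : ∀ x ∈ w, x < n := by
  simp only [evenW, Bool.and_eq_true, List.all_eq_true, Nat.blt, Nat.ble_eq] at hw
  exact fun x hx => hw.1 x hx

theorem evenW_two {n : ℕ} {w : List ℕ} (hw : evenW n w = true) : ∃ m, w.length = 2 * m := by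
  simp only [evenW, Bool.and_eq_true, Nat.beq_eq] at hw
  exact Nat.dvd_of_mod_eq_zero hw.2

theorem psi_even {w : List ℕ} (hw : evenW 10 w = true) :
    psi (gword Fi23.g10 w) = gword g12 w := by
  obtain ⟨m, hm⟩ := evenW_two hw
  rw [psi_gword (evenW_lt hw), hm, pow_mul, pow_two, g12_sq, one_pow, mul_one]

theorem parity_even {w : List ℕ} (hw : evenW 12 w = true) : parity (gword g12 w) = 1 := by
  obtain ⟨m, hm⟩ := evenW_two hw
  rw [parity_gword (evenW_lt hw), hm, pow_mul]
  simp

theorem center_Fi23 {u : Cfsg.Spor.Fi23} (hu : ∀ v, u * v = v * u) : u = 1 := by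
  have := Fi23.simple
  rcases (inferInstance : (Subgroup.center Cfsg.Spor.Fi23).Normal).eq_bot_or_eq_top with e | e
  · exact Subgroup.mem_bot.1 (e ▸ Subgroup.mem_center_iff.2 fun v => (hu v).symm)
  exfalso
  have hc : ∀ a b : Cfsg.Spor.Fi23, a * b = b * a := fun a b =>
    (Subgroup.mem_center_iff.1 (e ▸ Subgroup.mem_top a) b).symm
  have h01 : Fi23Out54.tran (Fi23.pt 1) = Fi23Out54.tran Fi23.P0 := by
    rw [Fi23Out54.tran_zero, Fi23Out54.tran, hc _ Fi23.z0, mul_inv_cancel_right]
  exact absurd (congrArg Fin.val (Fi23Out54.tran_injective h01)) (by simp [Fi23.pt_val])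

variable (h : ChecksOK)
include h

theorem commute_of_fix {g : Cfsg.Spor.Fi24} {x : ℕ} (hx : x < 12)
    (hg : act h g (act h (gword g12 (cjW x)) (pt 0)) = act h (gword g12 (cjW x)) (pt 0)) :
    g * g12 x = g12 x * g := by
  rw [g12_cj hx]
  set a := gword g12 (cjW x)
  have hm : a⁻¹ * g * a ∈ Hs := by
    rw [mem_Hs_iff h, map_mul, map_mul, map_inv, Equiv.Perm.mul_apply, Equiv.Perm.mul_apply, hg,
      Equiv.Perm.inv_eq_iff_eq]
  calc g * (a * g12 10 * a⁻¹) = a * ((a⁻¹ * g * a) * g12 10) * a⁻¹ := by group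
    _ = a * (g12 10 * (a⁻¹ * g * a)) * a⁻¹ := by rw [← commute_Hs hm]
    _ = a * g12 10 * a⁻¹ * g := by group

theorem eq_one_of_central {g : Cfsg.Spor.Fi24}
    (hg : ∀ b, g * b = b * g) (h0 : act h g (pt 0) = pt 0) : g = 1 := by
  have hall : ∀ p, act h g p = p := by
    intro p
    obtain ⟨a, rfl⟩ := act_transitive h p
    rw [← Equiv.Perm.mul_apply, ← map_mul, hg, map_mul, Equiv.Perm.mul_apply, h0]
  obtain ⟨u, e⟩ := mem_Hs_cases ((mem_Hs_iff h).2 h0)
  have hu : u = 1 := center_Fi23 fun v => psi_inj h (by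
    rcases e with rfl | rfl
    · rw [map_mul, map_mul, hg]
    · rw [map_mul, map_mul]
      apply mul_right_cancel (b := g12 10)
      calc psi u * psi v * g12 10 = psi u * g12 10 * psi v := by
            rw [mul_assoc, psi_commute_l, ← mul_assoc]
        _ = psi v * (psi u * g12 10) := hg _
        _ = psi v * psi u * g12 10 := by rw [mul_assoc])
  subst hu
  rcases e with rfl | rfl
  · rw [map_one]
  exfalso
  have e1 := congrArg Fin.val (hall (pt 1))
  rw [map_one, one_mul, ← wone g12 10, act_val] at e1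
  exact absurd e1 (by decide +kernel)

/-- An element fixing the points of the twelve letters is trivial. -/
theorem eq_one_of_fix12 {g : Cfsg.Spor.Fi24}
    (hg : ∀ x < 12, act h g (act h (gword g12 (cjW x)) (pt 0)) = act h (gword g12 (cjW x)) (pt 0)) :
    g = 1 := by
  have hle : (⊤ : Subgroup Cfsg.Spor.Fi24) ≤ Subgroup.centralizer {g} := by
    rw [← closure_g12, Subgroup.closure_le]
    rintro _ ⟨x, hx, rfl⟩
    refine Subgroup.mem_centralizer_iff.2 fun z hz => ?_
    rw [Set.mem_singleton_iff.1 hz]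
    exact commute_of_fix h hx (hg x hx)
  refine eq_one_of_central h (fun b => Subgroup.mem_centralizer_iff.1 (hle (Subgroup.mem_top b)) g rfl) ?_
  simpa [cjW, gword_nil] using hg 10 (by omega)

theorem act_injective : Function.Injective (act h) :=
  (injective_iff_map_eq_one _).2 fun g hg => eq_one_of_fix12 h fun x _ => by
    rw [hg, Equiv.Perm.one_apply]

omit h in
/-- two words agree on the twelve points -/
noncomputable def agree12 (v w : List ℕ) : Bool :=
  [0, 1, 2, 3, 4, 5, 6, 7, 8, 9, 10, 11].all fun x =>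
    Nat.beq (runL v (runL (cjW x) 0)) (runL w (runL (cjW x) 0))

theorem gword_eq_of_agree {v w : List ℕ} (he : agree12 v w = true) :
    gword g12 v = gword g12 w := by
  refine inv_mul_eq_one.1 (eq_one_of_fix12 h fun x hx => ?_)
  simp only [agree12, List.all_eq_true, Nat.beq_eq] at he
  have e : act h (gword g12 v) (act h (gword g12 (cjW x)) (pt 0)) =
      act h (gword g12 w) (act h (gword g12 (cjW x)) (pt 0)) := Fin.ext (by
    simp only [act_val]
    exact he x (by simp; omega))
  rw [map_mul, map_inv, Equiv.Perm.mul_apply, ← e, ← Equiv.Perm.mul_apply, inv_mul_cancel,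
    Equiv.Perm.one_apply]

omit h in
/-- the simple subgroup of index two -/
abbrev A : Type := ↥(commutator Cfsg.Spor.Fi24)

omit h in
theorem mem_A_iff {a : Cfsg.Spor.Fi24} : a ∈ commutator Cfsg.Spor.Fi24 ↔ parity a = 1 := by
  rw [commutator_eq, MonoidHom.mem_ker]

omit h in
/-- Fi23 in the simple subgroup -/
noncomputable def phi : Cfsg.Spor.Fi23 →* A :=
  psi.codRestrict _ fun u => mem_A_iff.2 (parity_psi u)

omit h in
theorem phi_val (u : Cfsg.Spor.Fi23) : ((phi u : A) : Cfsg.Spor.Fi24) = psi u := rfl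

theorem phi_injective : Function.Injective phi := fun _ _ e =>
  psi_inj h (congrArg Subtype.val e)

/-- the action of the simple subgroup on the points -/
noncomputable def ac : A →* Equiv.Perm (Fin npts) := (act h).comp (commutator _).subtype

theorem ac_phi_zero (u : Cfsg.Spor.Fi23) : ac h (phi u) (pt 0) = pt 0 := fix0 h (psi_mem_Hs u)

theorem exists_phi {a : A} (ha : ac h a (pt 0) = pt 0) : ∃ u, phi u = a := by
  obtain ⟨u, hu⟩ := mem_psi h ((mem_Hs_iff h).2 ha) (mem_A_iff.1 a.2)
  exact ⟨u, Subtype.ext hu⟩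

theorem exists_move (p : Fin npts) : ∃ a : A, ac h a (pt 0) = p := by
  obtain ⟨a, ha, e⟩ := exists_even h p
  exact ⟨⟨a, mem_A_iff.2 ha⟩, e⟩

end CfsgLib.Fi24Out17
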