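import Mathlib.Data.Nat.Notation

/-! Generated: words of the elements used for the automorphisms of Fi24'. -/

set_option autoImplicit false
set_option maxRecDepth 100000

namespace CfsgLib.Fi24Out17.Data

/-- an element of order twenty-three -/
def rW : List ℕ := [6, 0, 7, 6, 4, 0, 5, 6, 4, 3, 0, 5, 1, 4, 9, 7, 6, 7, 8, 3, 7, 2, 3, 8, 1, 2, 4, 6, 5, 0, 4, 9,
  1, 5, 9, 6, 3, 4, 8, 9]

/-- a short element of order eleven -/
def e1W : List ℕ := [5, 3, 7, 8, 4, 9, 5, 2, 1, 3, 0, 4, 5, 2, 6, 2, 5, 7, 3, 2, 3, 5, 4, 8, 3, 2, 6, 9, 7, 1, 7, 9,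
  7, 6, 1, 5, 9, 8]

/-- an element of order eleven squaring the first one by conjugation -/
def eW : List ℕ := [1, 2, 3, 4, 5, 4, 3, 2, 1, 7, 3, 2, 1, 0, 4, 3, 2, 1, 5, 4, 7, 3, 2, 8, 7, 3, 4, 5, 6, 9, 2, 1,
  6, 7, 8, 7, 3, 2, 4, 3, 5, 4, 7, 3, 2, 1, 2, 7, 3, 4, 8, 7, 3, 2, 7, 8, 2, 3, 4, 5, 1, 2, 3, 7,
  4, 3, 2, 0, 1, 0, 2, 3, 4, 7, 3, 2, 1, 5, 4, 3, 2, 6, 8, 7, 3, 4, 5, 4, 8, 7, 2, 3, 4, 5, 1, 2,
  3, 7, 4, 3, 2, 0, 1, 0, 2, 3, 4, 7, 3, 2, 1, 5, 4, 3, 2, 7, 2, 3, 7, 8, 1, 2, 3, 7, 4, 3, 2, 0,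
  1, 0, 2, 3, 4, 7, 3, 2, 1, 8, 7, 4, 5, 1, 2, 3, 7, 4, 3, 2, 0, 1, 0, 2, 3, 4, 7, 3, 2, 1, 5, 4,
  3, 2, 7, 4, 5, 4, 6, 5, 2, 3, 7, 4, 3, 2, 0, 1, 2, 3, 7, 4, 3, 2, 0, 1, 0, 2, 3, 4, 7, 3, 2, 1,
  8, 7, 3, 4, 5, 6, 2, 3, 7, 8, 4, 3, 7, 5, 6, 4, 5, 3, 2, 1, 2, 3, 7, 4, 3, 2, 0, 1, 0, 2, 3, 4,
  7, 3, 2, 1, 0, 1, 2, 3, 7, 4, 5, 3, 4, 2, 3, 7, 8, 1, 2, 3, 7, 4, 3, 2, 1, 5, 4, 3, 2, 7, 3, 4,
  8, 7, 3, 2, 1, 4, 5, 1, 2, 3, 7, 4, 3, 2, 0, 1, 0, 2, 3, 4, 7, 3, 2, 1, 5, 6, 7, 8, 7, 3, 2, 4,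
  3, 5, 4, 7, 3, 2, 3, 4, 2, 3, 7, 8, 1, 2, 3, 7, 4, 3, 2, 0, 1, 0, 2, 3, 4, 7, 3, 2, 1, 8, 7, 3,
  2, 4, 5, 6]

/-- an element of Fi24' commuting with it and permuting its three points -/
def vW : List ℕ := [10, 2, 3, 4, 5, 1, 2, 3, 7, 4, 3, 2, 0, 1, 0, 2, 3, 4, 7, 3, 2, 1, 5, 4, 3, 2, 7, 5, 3, 7, 8,
  6, 2, 3, 4, 5, 1, 2, 3, 7, 4, 3, 2, 0, 1, 0, 2, 3, 4, 7, 3, 2, 1, 5, 4, 3, 2, 8, 6, 2, 3, 7, 4,
  5, 3, 4, 2, 3, 7, 8, 7, 6, 3, 4, 5, 1, 2, 3, 7, 4, 3, 2, 0, 1, 0, 2, 3, 4, 7, 3, 2, 1, 8, 4, 3,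
  0, 1, 2, 3, 7, 8, 4, 5, 3, 4, 2, 3, 7, 6, 5, 1, 2, 3, 4, 3, 2, 1, 0, 8, 4, 3, 2, 1, 7, 3, 2, 4,
  3, 5, 4, 6, 5, 7, 3, 4, 8, 7, 3, 2, 1, 0, 3, 6, 8, 1, 2, 3, 7, 4, 3, 2, 0, 1, 0, 2, 3, 4, 7, 3,
  2, 1, 5, 4, 3, 2, 6, 5, 7, 3, 4, 8, 7, 3, 2, 5, 4, 6, 5, 7, 3, 8, 2, 3, 4, 5, 1, 2, 3, 7, 4, 3,
  2, 0, 1, 0, 2, 3, 4, 7, 3, 2, 1, 5, 4, 3, 2, 6, 2, 3, 7, 8, 1, 2, 3, 7, 4, 3, 2, 0, 1, 0, 2, 3,
  4, 7, 3, 2, 1, 8, 7, 3, 2, 4, 5, 4, 8, 7, 4, 5, 4, 6, 3, 4, 5, 4, 2, 3, 7, 4, 3, 2, 0, 1, 2, 3,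
  7, 4, 3, 2, 0, 1, 0, 2, 3, 4, 7, 3, 2, 1, 8, 6, 5, 2, 3, 7, 4, 5, 3, 4, 2, 3, 7, 8, 7, 6, 5, 1,
  2, 3, 7, 4, 3, 2, 0, 1, 0, 2, 3, 4, 7, 3, 2, 1, 8, 3, 7, 4, 2, 1, 2, 3, 7, 8, 4, 3, 7, 5, 6, 4,
  5, 2, 3, 4, 1, 2, 3, 7, 8, 3, 7, 1, 9, 6, 5, 4, 3, 7, 8, 2, 3, 7, 4, 5, 3, 4, 1, 2, 3, 7, 0, 1,
  2, 3, 4, 5, 6, 9, 3, 7, 8, 4, 2, 3, 7, 4, 5, 2, 3, 4, 0, 11, 0, 1, 2, 3, 4, 5, 6, 7, 3, 2, 1,
  0, 4, 3, 5, 4, 7, 8, 7, 3, 2, 1, 4, 3, 2, 5, 4, 3, 7, 3, 8, 7, 9, 6, 5, 4, 3, 2, 1, 7, 3, 2, 4,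
  5, 11]

/-- a word moving the base point to the first further fixed point -/
def mgW : List ℕ := [7, 8, 3, 7, 6, 4, 5, 2, 3, 4, 0, 1, 2, 3, 7, 8, 7, 5, 2, 3, 4, 1, 2, 3, 7, 0, 1, 2, 3, 4, 5, 6,
  9]

/-- a word moving the base point to the second further fixed point -/
def mbW : List ℕ := [5, 6, 9, 4, 1, 2, 3, 7, 8, 5, 4, 3, 7, 5, 6, 3, 4, 5, 2, 3, 4, 1, 2, 3, 7, 8, 7, 4, 5, 2, 3, 4,
  1, 2, 3, 7, 0, 1, 2, 3, 4, 5, 6, 9]

/-- steps from the first point to the points of the ten letters -/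
def steps : List (List Bool) := [[false, false, false, true, false, true, false, false, false, false, true, false, true, false, false, false, false, false, false, true, false, false], [false, true, false, true, false, false, false, true, false, true, false, true, false, false, true, false, false], [false, false, false, false, false, false, false, true, false, true, false, false, false, true, false, true, false, true, false, false, true, false], [true, false, false, false, false, false, false, false, true, false, true, false, false, true, false], [true, false, true, false, false, true, false, true, false, false, false, true, false, false, false, false, false, true, false, false], [false, true, false, false, false, false, false, false, false, true, false, false, false, true, false, false, false, true, false, false, false, false], [false, true, false, false,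 false, false, true, false, true, false, false, true, false, false, false, true, false, false, true, false, true, false, false], [true, false, false, true, false, true, false, false, true, false, false, false, false, true, false, true, false, false, false, false, false, false, false], [false, true, false, false, false, false, false, false, false, false, false, true, false, true, false, true, false, false, true, false, false], [false, false, false, false, false, false, true, false, false, true, false, true, false, false, true, false, false, true, false, false, false, false]]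

end CfsgLib.Fi24Out17.Data
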