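import Cfsg.Agent.Fi23Out54.Centralizer
import Cfsg.Agent.CosetEnum.Fi24Out17.Data

/-!
In Fi23: an element of order twenty-three, one of order eleven normalizing it, and a transposition
which generates the group together with the first one.
-/

set_option autoImplicit false
set_option maxRecDepth 100000

namespace CfsgLib.Fi24Out17

open CfsgLib.CosetEnum CfsgLib.CosetEnum.Fi23
open CfsgLib.Fi23Out54 (Pt act act_reverse gword_reverse tran tran_eq tran_conj lt10 of_lt10 gP gpt
  gen_tran gpt_val)

/-- the word of the transposition of a point given by a word moving to it -/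
def tW (m : List ℕ) : List ℕ := m ++ zW ++ m.reverse

/-- the word of the first transposition -/
def zzW : List ℕ := tW Data.mbW

/-- the word of the second transposition -/
def ugW : List ℕ := tW Data.mgW

/-- the word of a sequence of the two generators -/
def stepW (s : List Bool) : List ℕ := s.flatMap fun t => bif t then zzW else Data.rW

theorem words_ok : (lt10 Data.rW && lt10 Data.eW && lt10 Data.e1W && lt10 Data.mbW &&
    lt10 Data.mgW && lt10 zzW && lt10 ugW) = true := by decide +kernel

theorem rels_ok : (basePts.all (fun i => Nat.beq (act (List.replicate 23 Data.rW).flatten i) i) &&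
    basePts.all (fun i => Nat.beq (act (List.replicate 11 Data.eW).flatten i) i) &&
    basePts.all (fun i => Nat.beq (act (List.replicate 11 Data.e1W).flatten i) i) &&
    basePts.all (fun i => Nat.beq (act (Data.eW ++ Data.rW) i)
      (act (Data.rW ++ Data.rW ++ Data.eW) i)) &&
    basePts.all (fun i => Nat.beq (act (ugW ++ Data.eW) i) (act (Data.eW ++ ugW) i)) &&
    !(basePts.all fun i => Nat.beq (act Data.rW i) i) &&
    !(basePts.all fun i => Nat.beq (act Data.eW i) i) &&
    !(basePts.all fun i => Nat.beq (act Data.e1W i) i)) = true := by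
  decide +kernel

theorem steps_ok : (Nat.beq Data.steps.length 10 && allBelow (fun x =>
    lt10 (stepW (Data.steps.getD x [])) &&
    Nat.beq (act (stepW (Data.steps.getD x [])).reverse (act Data.mbW.reverse 0)) (gP x)) 10) =
    true := by
  decide +kernel

/-- the element of order twenty-three -/
noncomputable def rr : Cfsg.Spor.Fi23 := gword g10 Data.rW

/-- the normalizing element of order eleven -/
noncomputable def ee : Cfsg.Spor.Fi23 := gword g10 Data.eW

/-- a short element of order eleven -/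
noncomputable def e1 : Cfsg.Spor.Fi23 := gword g10 Data.e1W

/-- the first transposition -/
noncomputable def zz : Cfsg.Spor.Fi23 := gword g10 zzW

/-- the second transposition -/
noncomputable def ug : Cfsg.Spor.Fi23 := gword g10 ugW

theorem lts : (∀ x ∈ Data.rW, x < 10) ∧ (∀ x ∈ Data.eW, x < 10) ∧ (∀ x ∈ Data.e1W, x < 10) ∧
    (∀ x ∈ Data.mbW, x < 10) ∧ (∀ x ∈ zzW, x < 10) ∧ (∀ x ∈ ugW, x < 10) := by
  have hw := words_ok
  simp only [Bool.and_eq_true] at hw
  obtain ⟨⟨⟨⟨⟨⟨h1, h2⟩, h3⟩, h4⟩, -⟩, h6⟩, h7⟩ := hw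
  exact ⟨of_lt10 h1, of_lt10 h2, of_lt10 h3, of_lt10 h4, of_lt10 h6, of_lt10 h7⟩

theorem gword_rep (w : List ℕ) : ∀ n, gword g10 (List.replicate n w).flatten = gword g10 w ^ n
  | 0 => by rw [List.replicate_zero, List.flatten_nil, gword_nil, pow_zero]
  | n + 1 => by rw [List.replicate_succ, List.flatten_cons, gword_app, gword_rep w n, pow_succ']

theorem pow_of_check {w : List ℕ} (hw : ∀ x ∈ w, x < 10) {n : ℕ}
    (hc : basePts.all (fun i => Nat.beq (act (List.replicate n w).flatten i) i) = true) :
    gword g10 w ^ n = 1 := by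
  rw [← gword_rep, gword_eq_of_base (w := []) (fun x hx => ?_) (by simp) hc, gword_nil]
  simp only [List.mem_flatten, List.mem_replicate] at hx
  obtain ⟨l, ⟨-, rfl⟩, hx⟩ := hx
  exact hw x hx

theorem ne_one_of_check {w : List ℕ} (hw : ∀ x ∈ w, x < 10)
    (hc : basePts.all (fun i => Nat.beq (act w i) i) = false) : gword g10 w ≠ 1 := by
  intro e
  rw [List.all_eq_false] at hc
  obtain ⟨i, hi, hne⟩ := hc
  have hlt : i < 31671 := (show ∀ i ∈ basePts, i < 31671 by decide) i hi
  have h := Fi23Out54.act_eq w hw (pt i hlt)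
  rw [e, inv_one, map_one, Equiv.Perm.one_apply, pt_val] at h
  exact hne (by rw [← h]; exact Nat.beq_refl _)

theorem orders : orderOf rr = 23 ∧ orderOf ee = 11 ∧ orderOf e1 = 11 := by
  have hc := rels_ok
  simp only [Bool.and_eq_true, Bool.not_eq_true'] at hc
  obtain ⟨⟨⟨⟨⟨⟨⟨h1, h2⟩, h3⟩, -⟩, -⟩, h6⟩, h7⟩, h8⟩ := hc
  obtain ⟨l1, l2, l3, -⟩ := lts
  haveI : Fact (Nat.Prime 23) := ⟨by norm_num⟩
  haveI : Fact (Nat.Prime 11) := ⟨by norm_num⟩
  exact ⟨orderOf_eq_prime (pow_of_check l1 h1) (ne_one_of_check l1 h6),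
    orderOf_eq_prime (pow_of_check l2 h2) (ne_one_of_check l2 h7),
    orderOf_eq_prime (pow_of_check l3 h3) (ne_one_of_check l3 h8)⟩

theorem ee_conj : ee * rr * ee⁻¹ = rr ^ 2 := by
  have hc := rels_ok
  simp only [Bool.and_eq_true, Bool.not_eq_true'] at hc
  obtain ⟨⟨⟨⟨⟨-, h4⟩, -⟩, -⟩, -⟩, -⟩ := hc
  obtain ⟨l1, l2, -⟩ := lts
  have e := gword_eq_of_base (v := Data.eW ++ Data.rW) (w := Data.rW ++ Data.rW ++ Data.eW)
    (fun x hx => (List.mem_append.1 hx).elim (l2 x) (l1 x))
    (fun x hx => (List.mem_append.1 hx).elim (fun hx => (List.mem_append.1 hx).elim (l1 x) (l1 x))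
      (l2 x)) h4
  rw [gword_app, gword_app, gword_app] at e
  rw [ee, rr, e, mul_inv_cancel_right, pow_two]

theorem ug_comm : Commute ug ee := by
  have hc := rels_ok
  simp only [Bool.and_eq_true, Bool.not_eq_true'] at hc
  obtain ⟨⟨⟨⟨-, h5⟩, -⟩, -⟩, -⟩ := hc
  obtain ⟨-, l2, -, -, -, l6⟩ := lts
  have e := gword_eq_of_base (v := ugW ++ Data.eW) (w := Data.eW ++ ugW)
    (fun x hx => (List.mem_append.1 hx).elim (l6 x) (l2 x))
    (fun x hx => (List.mem_append.1 hx).elim (l2 x) (l6 x)) h5
  rw [gword_app, gword_app] at e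
  exact e

/-- the first point -/
noncomputable def pb : Pt := pi (gword g10 Data.mbW) P0

theorem zz_tran : zz = tran pb := by
  rw [pb, tran_eq (g := gword g10 Data.mbW) rfl, zz, zzW, tW, gword_app, gword_app, gword_reverse]
  rfl

theorem zz_sq : zz * zz = 1 := by rw [zz_tran, Fi23Out54.tran_sq]

/-- The element of order twenty-three and the transposition generate Fi23. -/
theorem closure_rz : Subgroup.closure ({rr, zz} : Set Cfsg.Spor.Fi23) = ⊤ := by
  set K := Subgroup.closure ({rr, zz} : Set Cfsg.Spor.Fi23)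
  have hr : rr ∈ K := Subgroup.subset_closure (Set.mem_insert _ _)
  have hz : zz ∈ K := Subgroup.subset_closure (Set.mem_insert_of_mem _ rfl)
  have hstep : ∀ s, gword g10 (stepW s) ∈ K := by
    intro s
    induction s with
    | nil => simp [stepW, gword_nil, one_mem]
    | cons t s ih =>
      rw [stepW, List.flatMap_cons, gword_app]
      cases t
      · exact mul_mem hr ih
      · exact mul_mem hz ih
  have hc := steps_ok
  simp only [Bool.and_eq_true, Model.allBelow_iff] at hc
  rw [eq_top_iff, ← closure_g10, Subgroup.closure_le]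
  rintro _ ⟨x, hx, rfl⟩
  obtain ⟨hl, hp⟩ := hc.2 x hx
  have hm := hstep (Data.steps.getD x [])
  have e : pi (gword g10 (stepW (Data.steps.getD x []))) pb = gpt x := Fin.ext (by
    rw [act_reverse _ (of_lt10 hl), gpt_val hx, pb, act_reverse _ lts.2.2.2.1, pt_val]
    exact Nat.eq_of_beq_eq_true hp)
  rw [SetLike.mem_coe, g10, letterVal_lt gen hx, gen_tran hx, ← e, ← tran_conj, ← zz_tran]
  exact mul_mem (mul_mem hm hz) (inv_mem hm)

end CfsgLib.Fi24Out17
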