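import Cfsg.Agent.CosetEnum.Upper
import Cfsg.Agent.CosetEnum.Fi24Out17.Scan.Part0
import Cfsg.Agent.CosetEnum.Fi24Out17.Scan.Part1
import Cfsg.Agent.CosetEnum.Fi24Out17.Scan.Part2
import Cfsg.Agent.CosetEnum.Fi24Out17.Scan.Part3
import Cfsg.Agent.CosetEnum.Fi24Out17.Scan.Part4
import Cfsg.Agent.CosetEnum.Fi24Out17.Scan.Part5
import Cfsg.Agent.CosetEnum.Fi24Out17.Scan.Part6
import Cfsg.Agent.CosetEnum.Fi24Out17.Scan.Part7
import Cfsg.Agent.CosetEnum.Fi24Out17.Scan.Part8
import Cfsg.Agent.CosetEnum.Fi24Out17.Scan.Part9
import Cfsg.Agent.CosetEnum.Fi24Out17.Scan.Part10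
import Cfsg.Agent.CosetEnum.Fi24Out17.Scan.Part11
import Cfsg.Agent.CosetEnum.Fi24Out17.Scan.Part12
import Cfsg.Agent.CosetEnum.Fi24Out17.Scan.Part13
import Cfsg.Agent.CosetEnum.Fi24Out17.Scan.Part14

/-! Generated: the checks, collected. -/

set_option autoImplicit false
set_option maxRecDepth 100000

namespace CfsgLib.Fi24Out17

open CfsgLib.CosetEnum

theorem scan_all : ∀ i < Fi24.Tab.npts, scanAt i = true :=
  RangeChecked.all (RangeChecked.app 760 306936 (RangeChecked.app 1024 306176 (RangeChecked.app 1024 305152 (RangeChecked.app 1024 304128 (RangeChecked.app 1024 303104 (RangeChecked.app 1024 302080 (RangeChecked.app 1024 301056 (RangeChecked.app 1024 300032 (RangeChecked.app 1024 299008 (RangeChecked.app 1024 297984 (RangeChecked.app 1024 296960 (RangeChecked.app 1024 295936 (RangeChecked.app 1024 294912 (RangeChecked.app 1024 293888 (RangeChecked.app 1024 292864 (RangeChecked.app 1024 291840 (RangeChecked.app 1024 290816 (RangeChecked.app 1024 289792 (RangeChecked.app 1024 288768 (RangeChecked.app 1024 287744 (RangeChecked.app 1024 286720 (RangeChecked.app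 1024 285696 (RangeChecked.app 1024 284672 (RangeChecked.app 1024 283648 (RangeChecked.app 1024 282624 (RangeChecked.app 1024 281600 (RangeChecked.app 1024 280576 (RangeChecked.app 1024 279552 (RangeChecked.app 1024 278528 (RangeChecked.app 1024 277504 (RangeChecked.app 1024 276480 (RangeChecked.app 1024 275456 (RangeChecked.app 1024 274432 (RangeChecked.app 1024 273408 (RangeChecked.app 1024 272384 (RangeChecked.app 1024 271360 (RangeChecked.app 1024 270336 (RangeChecked.app 1024 269312 (RangeChecked.app 1024 268288 (RangeChecked.app 1024 267264 (RangeChecked.app 1024 266240 (RangeChecked.app 1024 265216 (RangeChecked.app 1024 264192 (RangeChecked.app 1024 263168 (RangeChecked.app 1024 262144 (RangeChecked.app 1024 261120 (RangeChecked.app 1024 260096 (RangeChecked.app 1024 259072 (RangeChecked.app 1024 258048 (RangeChecked.app 1024 257024 (RangeChecked.app 1024 256000 (RangeChecked.app 1024 254976 (RangeChecked.app 1024 253952 (RangeChecked.app 1024 252928 (RangeChecked.app 1024 251904 (RangeChecked.app 1024 250880 (RangeChecked.app 1024 249856 (RangeChecked.app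 1024 248832 (RangeChecked.app 1024 247808 (RangeChecked.app 1024 246784 (RangeChecked.app 1024 245760 (RangeChecked.app 1024 244736 (RangeChecked.app 1024 243712 (RangeChecked.app 1024 242688 (RangeChecked.app 1024 241664 (RangeChecked.app 1024 240640 (RangeChecked.app 1024 239616 (RangeChecked.app 1024 238592 (RangeChecked.app 1024 237568 (RangeChecked.app 1024 236544 (RangeChecked.app 1024 235520 (RangeChecked.app 1024 234496 (RangeChecked.app 1024 233472 (RangeChecked.app 1024 232448 (RangeChecked.app 1024 231424 (RangeChecked.app 1024 230400 (RangeChecked.app 1024 229376 (RangeChecked.app 1024 228352 (RangeChecked.app 1024 227328 (RangeChecked.app 1024 226304 (RangeChecked.app 1024 225280 (RangeChecked.app 1024 224256 (RangeChecked.app 1024 223232 (RangeChecked.app 1024 222208 (RangeChecked.app 1024 221184 (RangeChecked.app 1024 220160 (RangeChecked.app 1024 219136 (RangeChecked.app 1024 218112 (RangeChecked.app 1024 217088 (RangeChecked.app 1024 216064 (RangeChecked.app 1024 215040 (RangeChecked.app 1024 214016 (RangeChecked.app 1024 212992 (RangeChecked.app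 1024 211968 (RangeChecked.app 1024 210944 (RangeChecked.app 1024 209920 (RangeChecked.app 1024 208896 (RangeChecked.app 1024 207872 (RangeChecked.app 1024 206848 (RangeChecked.app 1024 205824 (RangeChecked.app 1024 204800 (RangeChecked.app 1024 203776 (RangeChecked.app 1024 202752 (RangeChecked.app 1024 201728 (RangeChecked.app 1024 200704 (RangeChecked.app 1024 199680 (RangeChecked.app 1024 198656 (RangeChecked.app 1024 197632 (RangeChecked.app 1024 196608 (RangeChecked.app 1024 195584 (RangeChecked.app 1024 194560 (RangeChecked.app 1024 193536 (RangeChecked.app 1024 192512 (RangeChecked.app 1024 191488 (RangeChecked.app 1024 190464 (RangeChecked.app 1024 189440 (RangeChecked.app 1024 188416 (RangeChecked.app 1024 187392 (RangeChecked.app 1024 186368 (RangeChecked.app 1024 185344 (RangeChecked.app 1024 184320 (RangeChecked.app 1024 183296 (RangeChecked.app 1024 182272 (RangeChecked.app 1024 181248 (RangeChecked.app 1024 180224 (RangeChecked.app 1024 179200 (RangeChecked.app 1024 178176 (RangeChecked.app 1024 177152 (RangeChecked.app 1024 176128 (RangeChecked.app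 1024 175104 (RangeChecked.app 1024 174080 (RangeChecked.app 1024 173056 (RangeChecked.app 1024 172032 (RangeChecked.app 1024 171008 (RangeChecked.app 1024 169984 (RangeChecked.app 1024 168960 (RangeChecked.app 1024 167936 (RangeChecked.app 1024 166912 (RangeChecked.app 1024 165888 (RangeChecked.app 1024 164864 (RangeChecked.app 1024 163840 (RangeChecked.app 1024 162816 (RangeChecked.app 1024 161792 (RangeChecked.app 1024 160768 (RangeChecked.app 1024 159744 (RangeChecked.app 1024 158720 (RangeChecked.app 1024 157696 (RangeChecked.app 1024 156672 (RangeChecked.app 1024 155648 (RangeChecked.app 1024 154624 (RangeChecked.app 1024 153600 (RangeChecked.app 1024 152576 (RangeChecked.app 1024 151552 (RangeChecked.app 1024 150528 (RangeChecked.app 1024 149504 (RangeChecked.app 1024 148480 (RangeChecked.app 1024 147456 (RangeChecked.app 1024 146432 (RangeChecked.app 1024 145408 (RangeChecked.app 1024 144384 (RangeChecked.app 1024 143360 (RangeChecked.app 1024 142336 (RangeChecked.app 1024 141312 (RangeChecked.app 1024 140288 (RangeChecked.app 1024 139264 (RangeChecked.app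 1024 138240 (RangeChecked.app 1024 137216 (RangeChecked.app 1024 136192 (RangeChecked.app 1024 135168 (RangeChecked.app 1024 134144 (RangeChecked.app 1024 133120 (RangeChecked.app 1024 132096 (RangeChecked.app 1024 131072 (RangeChecked.app 1024 130048 (RangeChecked.app 1024 129024 (RangeChecked.app 1024 128000 (RangeChecked.app 1024 126976 (RangeChecked.app 1024 125952 (RangeChecked.app 1024 124928 (RangeChecked.app 1024 123904 (RangeChecked.app 1024 122880 (RangeChecked.app 1024 121856 (RangeChecked.app 1024 120832 (RangeChecked.app 1024 119808 (RangeChecked.app 1024 118784 (RangeChecked.app 1024 117760 (RangeChecked.app 1024 116736 (RangeChecked.app 1024 115712 (RangeChecked.app 1024 114688 (RangeChecked.app 1024 113664 (RangeChecked.app 1024 112640 (RangeChecked.app 1024 111616 (RangeChecked.app 1024 110592 (RangeChecked.app 1024 109568 (RangeChecked.app 1024 108544 (RangeChecked.app 1024 107520 (RangeChecked.app 1024 106496 (RangeChecked.app 1024 105472 (RangeChecked.app 1024 104448 (RangeChecked.app 1024 103424 (RangeChecked.app 1024 102400 (RangeChecked.app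 1024 101376 (RangeChecked.app 1024 100352 (RangeChecked.app 1024 99328 (RangeChecked.app 1024 98304 (RangeChecked.app 1024 97280 (RangeChecked.app 1024 96256 (RangeChecked.app 1024 95232 (RangeChecked.app 1024 94208 (RangeChecked.app 1024 93184 (RangeChecked.app 1024 92160 (RangeChecked.app 1024 91136 (RangeChecked.app 1024 90112 (RangeChecked.app 1024 89088 (RangeChecked.app 1024 88064 (RangeChecked.app 1024 87040 (RangeChecked.app 1024 86016 (RangeChecked.app 1024 84992 (RangeChecked.app 1024 83968 (RangeChecked.app 1024 82944 (RangeChecked.app 1024 81920 (RangeChecked.app 1024 80896 (RangeChecked.app 1024 79872 (RangeChecked.app 1024 78848 (RangeChecked.app 1024 77824 (RangeChecked.app 1024 76800 (RangeChecked.app 1024 75776 (RangeChecked.app 1024 74752 (RangeChecked.app 1024 73728 (RangeChecked.app 1024 72704 (RangeChecked.app 1024 71680 (RangeChecked.app 1024 70656 (RangeChecked.app 1024 69632 (RangeChecked.app 1024 68608 (RangeChecked.app 1024 67584 (RangeChecked.app 1024 66560 (RangeChecked.app 1024 65536 (RangeChecked.app 1024 64512 (RangeChecked.app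 1024 63488 (RangeChecked.app 1024 62464 (RangeChecked.app 1024 61440 (RangeChecked.app 1024 60416 (RangeChecked.app 1024 59392 (RangeChecked.app 1024 58368 (RangeChecked.app 1024 57344 (RangeChecked.app 1024 56320 (RangeChecked.app 1024 55296 (RangeChecked.app 1024 54272 (RangeChecked.app 1024 53248 (RangeChecked.app 1024 52224 (RangeChecked.app 1024 51200 (RangeChecked.app 1024 50176 (RangeChecked.app 1024 49152 (RangeChecked.app 1024 48128 (RangeChecked.app 1024 47104 (RangeChecked.app 1024 46080 (RangeChecked.app 1024 45056 (RangeChecked.app 1024 44032 (RangeChecked.app 1024 43008 (RangeChecked.app 1024 41984 (RangeChecked.app 1024 40960 (RangeChecked.app 1024 39936 (RangeChecked.app 1024 38912 (RangeChecked.app 1024 37888 (RangeChecked.app 1024 36864 (RangeChecked.app 1024 35840 (RangeChecked.app 1024 34816 (RangeChecked.app 1024 33792 (RangeChecked.app 1024 32768 (RangeChecked.app 1024 31744 (RangeChecked.app 1024 30720 (RangeChecked.app 1024 29696 (RangeChecked.app 1024 28672 (RangeChecked.app 1024 27648 (RangeChecked.app 1024 26624 (RangeChecked.app 1024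 25600 (RangeChecked.app 1024 24576 (RangeChecked.app 1024 23552 (RangeChecked.app 1024 22528 (RangeChecked.app 1024 21504 (RangeChecked.app 1024 20480 (RangeChecked.app 1024 19456 (RangeChecked.app 1024 18432 (RangeChecked.app 1024 17408 (RangeChecked.app 1024 16384 (RangeChecked.app 1024 15360 (RangeChecked.app 1024 14336 (RangeChecked.app 1024 13312 (RangeChecked.app 1024 12288 (RangeChecked.app 1024 11264 (RangeChecked.app 1024 10240 (RangeChecked.app 1024 9216 (RangeChecked.app 1024 8192 (RangeChecked.app 1024 7168 (RangeChecked.app 1024 6144 (RangeChecked.app 1024 5120 (RangeChecked.app 1024 4096 (RangeChecked.app 1024 3072 (RangeChecked.app 1024 2048 (RangeChecked.app 1024 1024 RangeChecked.zero scan0 rfl) scan1024 rfl) scan2048 rfl) scan3072 rfl) scan4096 rfl) scan5120 rfl) scan6144 rfl) scan7168 rfl) scan8192 rfl) scan9216 rfl) scan10240 rfl) scan11264 rfl) scan12288 rfl) scan13312 rfl) scan14336 rfl) scan15360 rfl) scan16384 rfl) scan17408 rfl) scan18432 rfl) scan19456 rfl) scan20480 rfl) scan21504 rfl) scan22528 rfl) scan23552 rfl) scan24576 rfl) scan25600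 rfl) scan26624 rfl) scan27648 rfl) scan28672 rfl) scan29696 rfl) scan30720 rfl) scan31744 rfl) scan32768 rfl) scan33792 rfl) scan34816 rfl) scan35840 rfl) scan36864 rfl) scan37888 rfl) scan38912 rfl) scan39936 rfl) scan40960 rfl) scan41984 rfl) scan43008 rfl) scan44032 rfl) scan45056 rfl) scan46080 rfl) scan47104 rfl) scan48128 rfl) scan49152 rfl) scan50176 rfl) scan51200 rfl) scan52224 rfl) scan53248 rfl) scan54272 rfl) scan55296 rfl) scan56320 rfl) scan57344 rfl) scan58368 rfl) scan59392 rfl) scan60416 rfl) scan61440 rfl) scan62464 rfl) scan63488 rfl) scan64512 rfl) scan65536 rfl) scan66560 rfl) scan67584 rfl) scan68608 rfl) scan69632 rfl) scan70656 rfl) scan71680 rfl) scan72704 rfl) scan73728 rfl) scan74752 rfl) scan75776 rfl) scan76800 rfl) scan77824 rfl) scan78848 rfl) scan79872 rfl) scan80896 rfl) scan81920 rfl) scan82944 rfl) scan83968 rfl) scan84992 rfl) scan86016 rfl) scan87040 rfl) scan88064 rfl) scan89088 rfl) scan90112 rfl) scan91136 rfl) scan92160 rfl) scan93184 rfl) scan94208 rfl) scan95232 rfl) scan96256 rfl) scan97280 rfl) scan98304 rfl) scan99328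 rfl) scan100352 rfl) scan101376 rfl) scan102400 rfl) scan103424 rfl) scan104448 rfl) scan105472 rfl) scan106496 rfl) scan107520 rfl) scan108544 rfl) scan109568 rfl) scan110592 rfl) scan111616 rfl) scan112640 rfl) scan113664 rfl) scan114688 rfl) scan115712 rfl) scan116736 rfl) scan117760 rfl) scan118784 rfl) scan119808 rfl) scan120832 rfl) scan121856 rfl) scan122880 rfl) scan123904 rfl) scan124928 rfl) scan125952 rfl) scan126976 rfl) scan128000 rfl) scan129024 rfl) scan130048 rfl) scan131072 rfl) scan132096 rfl) scan133120 rfl) scan134144 rfl) scan135168 rfl) scan136192 rfl) scan137216 rfl) scan138240 rfl) scan139264 rfl) scan140288 rfl) scan141312 rfl) scan142336 rfl) scan143360 rfl) scan144384 rfl) scan145408 rfl) scan146432 rfl) scan147456 rfl) scan148480 rfl) scan149504 rfl) scan150528 rfl) scan151552 rfl) scan152576 rfl) scan153600 rfl) scan154624 rfl) scan155648 rfl) scan156672 rfl) scan157696 rfl) scan158720 rfl) scan159744 rfl) scan160768 rfl) scan161792 rfl) scan162816 rfl) scan163840 rfl) scan164864 rfl) scan165888 rfl) scan166912 rfl) scan167936 rfl)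 scan168960 rfl) scan169984 rfl) scan171008 rfl) scan172032 rfl) scan173056 rfl) scan174080 rfl) scan175104 rfl) scan176128 rfl) scan177152 rfl) scan178176 rfl) scan179200 rfl) scan180224 rfl) scan181248 rfl) scan182272 rfl) scan183296 rfl) scan184320 rfl) scan185344 rfl) scan186368 rfl) scan187392 rfl) scan188416 rfl) scan189440 rfl) scan190464 rfl) scan191488 rfl) scan192512 rfl) scan193536 rfl) scan194560 rfl) scan195584 rfl) scan196608 rfl) scan197632 rfl) scan198656 rfl) scan199680 rfl) scan200704 rfl) scan201728 rfl) scan202752 rfl) scan203776 rfl) scan204800 rfl) scan205824 rfl) scan206848 rfl) scan207872 rfl) scan208896 rfl) scan209920 rfl) scan210944 rfl) scan211968 rfl) scan212992 rfl) scan214016 rfl) scan215040 rfl) scan216064 rfl) scan217088 rfl) scan218112 rfl) scan219136 rfl) scan220160 rfl) scan221184 rfl) scan222208 rfl) scan223232 rfl) scan224256 rfl) scan225280 rfl) scan226304 rfl) scan227328 rfl) scan228352 rfl) scan229376 rfl) scan230400 rfl) scan231424 rfl) scan232448 rfl) scan233472 rfl) scan234496 rfl) scan235520 rfl) scan236544 rfl) scan237568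 rfl) scan238592 rfl) scan239616 rfl) scan240640 rfl) scan241664 rfl) scan242688 rfl) scan243712 rfl) scan244736 rfl) scan245760 rfl) scan246784 rfl) scan247808 rfl) scan248832 rfl) scan249856 rfl) scan250880 rfl) scan251904 rfl) scan252928 rfl) scan253952 rfl) scan254976 rfl) scan256000 rfl) scan257024 rfl) scan258048 rfl) scan259072 rfl) scan260096 rfl) scan261120 rfl) scan262144 rfl) scan263168 rfl) scan264192 rfl) scan265216 rfl) scan266240 rfl) scan267264 rfl) scan268288 rfl) scan269312 rfl) scan270336 rfl) scan271360 rfl) scan272384 rfl) scan273408 rfl) scan274432 rfl) scan275456 rfl) scan276480 rfl) scan277504 rfl) scan278528 rfl) scan279552 rfl) scan280576 rfl) scan281600 rfl) scan282624 rfl) scan283648 rfl) scan284672 rfl) scan285696 rfl) scan286720 rfl) scan287744 rfl) scan288768 rfl) scan289792 rfl) scan290816 rfl) scan291840 rfl) scan292864 rfl) scan293888 rfl) scan294912 rfl) scan295936 rfl) scan296960 rfl) scan297984 rfl) scan299008 rfl) scan300032 rfl) scan301056 rfl) scan302080 rfl) scan303104 rfl) scan304128 rfl) scan305152 rfl) scan306176 rfl)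

end CfsgLib.Fi24Out17
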