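import Cfsg.Agent.CosetEnum.Fi24Out17.Base
import Cfsg.Agent.CosetEnum.Fi24Out17.Gen
import Cfsg.Agent.CosetEnum.Fi24Out17.Scan
import Mathlib.GroupTheory.Sylow

/-!
Fixed points of the chosen elements of orders twenty-three and eleven.
-/

set_option autoImplicit false
set_option maxRecDepth 8000

namespace CfsgLib.Fi24Out17

open CfsgLib.CosetEnum CfsgLib.CosetEnum.Fi24
open CfsgLib.CosetEnum.Fi24.Tab (npts runL lab cls)

/-- Elements of a prime order dividing the group order once generate conjugate subgroups. -/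
theorem exists_conj_mem {G : Type*} [Group G] [Finite G] {p : ℕ} (hp : p.Prime) {x y : G}
    (hx : orderOf x = p) (hy : orderOf y = p) (h2 : ¬ p ^ 2 ∣ Nat.card G) :
    ∃ g : G, g * y * g⁻¹ ∈ Subgroup.zpowers x ∧ x ∈ Subgroup.zpowers (g * y * g⁻¹) := by
  have : Fact p.Prime := ⟨hp⟩
  have hne : Nat.card G ≠ 0 := Nat.card_pos.ne'
  have hfac : (Nat.card G).factorization p = 1 := by
    have h1 : 1 ≤ (Nat.card G).factorization p :=
      (hp.pow_dvd_iff_le_factorization hne).1 (by rw [pow_one, ← hx]; exact orderOf_dvd_natCard x)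
    have h3 : ¬ 2 ≤ (Nat.card G).factorization p :=
      fun h => h2 ((hp.pow_dvd_iff_le_factorization hne).2 h)
    omega
  let P : Sylow p G := Sylow.ofCard (Subgroup.zpowers x)
    (by rw [Nat.card_zpowers, hx, hfac, pow_one])
  let Q : Sylow p G := Sylow.ofCard (Subgroup.zpowers y)
    (by rw [Nat.card_zpowers, hy, hfac, pow_one])
  obtain ⟨g, hg⟩ := MulAction.exists_smul_eq G Q P
  have hm : g * y * g⁻¹ ∈ Subgroup.zpowers x := by
    have h : MulAut.conj g • y ∈ ((g • Q : Sylow p G) : Subgroup G) := by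
      rw [Sylow.coe_subgroup_smul]
      exact Subgroup.smul_mem_pointwise_smul _ _ _
        (by simp only [Q, Sylow.coe_ofCard]; exact Subgroup.mem_zpowers y)
    rw [hg] at h
    simpa [P] using h
  have ho : orderOf (g * y * g⁻¹) = p := by
    rw [show g * y * g⁻¹ = MulAut.conj g y from rfl, MulEquiv.orderOf_eq, hy]
  refine ⟨g, hm, ?_⟩
  rw [Subgroup.eq_of_le_of_card_ge (Subgroup.zpowers_le.2 hm)
    (le_of_eq (by rw [Nat.card_zpowers, Nat.card_zpowers, ho, hx]))]
  exact Subgroup.mem_zpowers x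

theorem fix_of_mem_zpowers {G X : Type*} [Group G] (f : G →* Equiv.Perm X) {x y : G} {p : X}
    (hx : f x p = p) (hy : y ∈ Subgroup.zpowers x) : f y p = p := by
  have hle : Subgroup.zpowers x ≤ (MulAction.stabilizer (Equiv.Perm X) p).comap f :=
    Subgroup.zpowers_le.2 hx
  exact hle hy

theorem scan_facts {i : ℕ} (hi : i < npts) :
    scanE i = true ∧ scanTwo i = true ∧ scanOne i = true := by
  have h := scan_all i hi
  simp only [scanAt, Bool.and_eq_true] at h
  exact ⟨h.1.1, h.1.2, h.2⟩

theorem fixAll_iff (W : List (List ℕ)) (i : ℕ) :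
    fixAll W i = true ↔ ∀ w ∈ W, runL w i = i := by
  induction W with
  | nil => simp [fixAll]
  | cons w W ih =>
    have e : fixAll (w :: W) i =
        @Bool.rec (fun _ => Bool) false (fixAll W i) (Nat.beq (runL w i) i) := rfl
    rw [e, List.forall_mem_cons, ← ih]
    cases hb : Nat.beq (runL w i) i
    · exact iff_of_false (by simp) fun hc => by rw [hc.1, Nat.beq_refl] at hb; simp at hb
    · exact ⟨fun hf => ⟨Nat.eq_of_beq_eq_true hb, hf⟩, fun hc => hc.2⟩

theorem e1_data : evenW 10 Data.e1W = true ∧ evenW 10 Data.eW = true ∧ evenW 10 Data.rW = true ∧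
    runL Data.e1W 305527 = 305527 ∧ runL Data.e1W 214 = 214 := by
  decide +kernel

variable (h : ChecksOK)
include h

theorem ac_phi_val {w : List ℕ} (hw : evenW 10 w = true) (i : Fin npts) :
    ((ac h (phi (gword Fi23.g10 w)) i : Fin npts) : ℕ) = runL w i := by
  show ((act h (psi (gword Fi23.g10 w)) i : Fin npts) : ℕ) = _
  rw [psi_even hw, act_val]

theorem card_stab {u : Cfsg.Spor.Fi23} {j : Fin npts} (hu : ac h (phi u) j = j) :
    ∃ s, s * {i : Fin npts | cls (lab i) = cls (lab j)}.ncard = 4089470473293004800 ∧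
      orderOf u ∣ s := by
  have := Fi23.finite_fi23
  let _ : MulAction Cfsg.Spor.Fi23 (Fin npts) :=
    MulAction.compHom (Fin npts) ((ac h).comp phi)
  have ho : MulAction.orbit Cfsg.Spor.Fi23 j = {i : Fin npts | cls (lab i) = cls (lab j)} := by
    rw [← orbit_PP h j]
    ext i
    constructor
    · rintro ⟨v, rfl⟩
      exact ⟨⟨act h (psi v), psi v, ⟨v, rfl⟩, rfl⟩, rfl⟩
    · rintro ⟨⟨_, _, ⟨v, rfl⟩, rfl⟩, rfl⟩
      exact ⟨v, rfl⟩
  refine ⟨Nat.card (MulAction.stabilizer Cfsg.Spor.Fi23 j), ?_, ?_⟩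
  · rw [← ho, ← MulAction.index_stabilizer, Subgroup.card_mul_index, Fi23.card_fi23]
  · have hm : u ∈ MulAction.stabilizer Cfsg.Spor.Fi23 j := hu
    rw [← Subgroup.orderOf_mk u hm]
    exact orderOf_dvd_natCard _

theorem card_cls_two : {i : Fin npts | cls (lab i) = 2}.ncard = 31671 := by
  rw [ncard_label (fun i => cls (lab i)), h.clTwo]

theorem card_cls_one : {i : Fin npts | cls (lab i) = 1}.ncard = 275264 := by
  rw [ncard_label (fun i => cls (lab i)), h.clOne]

theorem fix_rr {p : Fin npts} (hp : ac h (phi rr) p = p) : p = pt 0 := by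
  have hc := cls_values (lab_lt h p.2)
  obtain ⟨s, hs, hd⟩ := card_stab h hp
  rw [orders.1] at hd
  rcases (by omega : cls (lab p) = 0 ∨ cls (lab p) = 1 ∨ cls (lab p) = 2) with e | e | e
  · exact cls_zero h e
  · rw [e, card_cls_one h] at hs
    omega
  · rw [e, card_cls_two h] at hs
    omega

theorem fix_e1 (p : Fin npts) :
    ac h (phi e1) p = p ↔ p ∈ ({pt 0, pt 305527, pt 214} : Set (Fin npts)) := by
  obtain ⟨hev, -, -, h1, h2⟩ := e1_data
  constructor
  · intro hp
    have hc := cls_values (lab_lt h p.2)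
    obtain ⟨s, hs, hd⟩ := card_stab h hp
    rw [orders.2.2] at hd
    rcases (by omega : cls (lab p) = 0 ∨ cls (lab p) = 1 ∨ cls (lab p) = 2) with e | e | e
    · exact Or.inl (cls_zero h e)
    · rw [e, card_cls_one h] at hs
      omega
    · have hv := congrArg Fin.val hp
      rw [e1, ac_phi_val h hev] at hv
      have hsc := (scan_facts p.2).1
      rw [scanE, e, hv, Nat.beq_refl, Nat.beq_refl] at hsc
      simp only [Bool.or_eq_true, Nat.beq_eq] at hsc
      rcases hsc with e' | e'
      · exact Or.inr (Or.inl (Fin.ext e'))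
      · exact Or.inr (Or.inr (Fin.ext e'))
  · rintro (rfl | rfl | rfl)
    · exact ac_phi_zero h _
    · exact Fin.ext (by rw [e1, ac_phi_val h hev]; exact h1)
    · exact Fin.ext (by rw [e1, ac_phi_val h hev]; exact h2)

/-- the three fixed points of the normalizing element of order eleven -/
abbrev Tri : Type := {p : Fin npts // ac h (phi ee) p = p}

theorem card_tri : Nat.card (Tri h) = 3 := by
  have := Fi23.finite_fi23
  obtain ⟨g, hg, hg'⟩ := exists_conj_mem (p := 11) (by norm_num) orders.2.2 orders.2.1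
    (by rw [Fi23.card_fi23]; norm_num)
  have hiff : ∀ p, ac h (phi ee) p = p ↔ ac h (phi g) p ∈
      ({pt 0, pt 305527, pt 214} : Set (Fin npts)) := by
    intro p
    rw [← fix_e1 h]
    have hcj : ac h (phi (g * ee * g⁻¹)) (ac h (phi g) p) = ac h (phi g) (ac h (phi ee) p) := by
      rw [← Equiv.Perm.mul_apply, ← map_mul, ← map_mul, inv_mul_cancel_right, map_mul, map_mul,
        Equiv.Perm.mul_apply]
    generalize hq : ac h (phi g) p = q at hcj ⊢
    constructor
    · intro hp
      have h' : ((ac h).comp phi) (g * ee * g⁻¹) q = q := by rw [MonoidHom.comp_apply, hcj, hp, hq]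
      have h'' := fix_of_mem_zpowers ((ac h).comp phi) h' hg'
      rwa [MonoidHom.comp_apply] at h''
    · intro hp
      have h' : ((ac h).comp phi) e1 q = q := by rw [MonoidHom.comp_apply, hp]
      have h'' := fix_of_mem_zpowers ((ac h).comp phi) h' hg
      rw [MonoidHom.comp_apply, hcj, ← hq] at h''
      exact (ac h (phi g)).injective h''
  have e : {p | ac h (phi ee) p = p} =
      ⇑((ac h (phi g))⁻¹ : Equiv.Perm (Fin npts)) '' ({pt 0, pt 305527, pt 214} : Set (Fin npts)) := by
    ext p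
    rw [Set.mem_setOf_eq, hiff]
    constructor
    · intro hp
      exact ⟨_, hp, Equiv.symm_apply_apply _ p⟩
    · rintro ⟨q, hq, rfl⟩
      rwa [Equiv.Perm.coe_inv, Equiv.apply_symm_apply]
  show Nat.card ({p | ac h (phi ee) p = p} : Set (Fin npts)) = 3
  rw [Nat.card_coe_set_eq, e, Set.ncard_image_of_injective _ (Equiv.injective _),
    Set.ncard_eq_three.2 ⟨_, _, _, ?_, ?_, ?_, rfl⟩] <;>
    exact fun e => absurd (congrArg Fin.val e) (by decide)

end CfsgLib.Fi24Out17
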