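import Cfsg.Agent.CosetEnum.Fi24Out17.Pinned
import Cfsg.Agent.Fi23Out54.Main

/-!
The outer automorphism group of Fi24' has order two: an automorphism keeping the copy of Fi23 can be
made to fix it pointwise, and then it is trivial or conjugation by `l`.
-/

set_option autoImplicit false
set_option maxRecDepth 100000

namespace CfsgLib.Fi24Out17

open CfsgLib.CosetEnum CfsgLib.CosetEnum.Fi24
open CfsgLib.CosetEnum.Fi24.Tab (npts runL lab cls)

theorem base_data : (W2.all (fun w => evenW 12 w && Nat.beq (runL w 4) 4 &&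
      (Nat.beq (w.getD 1 0) 10 && Nat.beq w.length 2 && Nat.blt (w.getD 0 0) 10)) &&
    W1.all (fun w => evenW 10 w && Nat.beq (runL w 1) 1) &&
    Nat.beq (cls (lab 4)) 2 && Nat.beq (cls (lab 1)) 1 && Nat.beq (runL [10] 1) 2 &&
    Nat.beq (runL [10] 4) 4) = true := by
  decide +kernel

/-- conjugation by elements of the presented group -/
noncomputable def conjA : Cfsg.Spor.Fi24 →* MulAut A := MulAut.conjNormal

theorem conjA_val (g : Cfsg.Spor.Fi24) (a : A) :
    ((conjA g a : A) : Cfsg.Spor.Fi24) = g * a * g⁻¹ := MulAut.conjNormal_apply g a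

theorem conjA_coe (a : A) : conjA (a : Cfsg.Spor.Fi24) = MulAut.conj a :=
  MulEquiv.ext fun x => Subtype.ext (conjA_val _ x)

variable (h : ChecksOK)
include h

theorem transitive_cls {i j : Fin npts} (e : cls (lab i) = cls (lab j)) :
    ∃ u, ac h (phi u) j = i := by
  have hm : i ∈ MulAction.orbit (PP h) j := by rw [orbit_PP h]; exact e
  obtain ⟨⟨_, _, ⟨u, rfl⟩, rfl⟩, hu⟩ := hm
  exact ⟨u, hu⟩

/-- the permutation of the points given by an automorphism fixing Fi23 pointwise -/
noncomputable def ptMap (α : MulAut A) (p : Fin npts) : Fin npts :=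
  ac h (α (exists_move h p).choose) (pt 0)

theorem ptMap_spec {α : MulAut A} (hα : ∀ u, α (phi u) = phi u) (a : A) :
    ac h (α a) (pt 0) = ptMap h α (ac h a (pt 0)) := by
  set m := (exists_move h (ac h a (pt 0))).choose
  have hm : ac h m (pt 0) = ac h a (pt 0) := (exists_move h (ac h a (pt 0))).choose_spec
  obtain ⟨u, hu⟩ := exists_phi h (a := m⁻¹ * a) (by
    rw [map_mul, map_inv, Equiv.Perm.mul_apply, Equiv.Perm.inv_eq_iff_eq, hm])
  have e : a = m * phi u := by rw [hu, mul_inv_cancel_left]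
  show ac h (α a) (pt 0) = ac h (α m) (pt 0)
  rw [e, map_mul, hα, map_mul, Equiv.Perm.mul_apply, ac_phi_zero]

theorem ptMap_equiv {α : MulAut A} (hα : ∀ u, α (phi u) = phi u) (u : Cfsg.Spor.Fi23)
    (p : Fin npts) : ptMap h α (ac h (phi u) p) = ac h (phi u) (ptMap h α p) := by
  obtain ⟨a, rfl⟩ := exists_move h p
  rw [← ptMap_spec h hα a, ← Equiv.Perm.mul_apply, ← map_mul, ← ptMap_spec h hα, map_mul α, hα,
    map_mul, Equiv.Perm.mul_apply]

theorem ptMap_injective {α : MulAut A} (hα : ∀ u, α (phi u) = phi u) :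
    Function.Injective (ptMap h α) := by
  intro p q e
  obtain ⟨a, rfl⟩ := exists_move h p
  obtain ⟨b, rfl⟩ := exists_move h q
  rw [← ptMap_spec h hα, ← ptMap_spec h hα] at e
  obtain ⟨u, hu⟩ := exists_phi h (a := α (a⁻¹ * b)) (by
    rw [map_mul α, map_inv α, map_mul, map_inv, Equiv.Perm.mul_apply, Equiv.Perm.inv_eq_iff_eq, e])
  have : a⁻¹ * b = phi u := α.injective (by rw [hα, hu])
  rw [show b = a * phi u by rw [← this, mul_inv_cancel_left], map_mul, Equiv.Perm.mul_apply,
    ac_phi_zero]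

theorem ptMap_zero {α : MulAut A} (hα : ∀ u, α (phi u) = phi u) : ptMap h α (pt 0) = pt 0 := by
  have e := ptMap_spec h hα 1
  rw [map_one α, map_one, Equiv.Perm.one_apply] at e
  exact e.symm

theorem ptMap_two {α : MulAut A} (hα : ∀ u, α (phi u) = phi u) {p : Fin npts}
    (hp : cls (lab p) = 2) : ptMap h α p = p := by
  have hd := base_data
  simp only [Bool.and_eq_true, List.all_eq_true, Nat.beq_eq] at hd
  obtain ⟨⟨⟨⟨⟨hW, -⟩, h4⟩, -⟩, -⟩, -⟩ := hd
  have key : ptMap h α (pt 4) = pt 4 := by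
    have hfix : fixAll W2 (ptMap h α (pt 4) : Fin npts) = true := by
      refine (fixAll_iff _ _).2 fun w hw => ?_
      obtain ⟨⟨hev, h4w⟩, ⟨h10, hlen⟩, hlt⟩ := hW w hw
      simp only [Nat.blt, Nat.ble_eq] at hlt
      obtain ⟨x, y, rfl⟩ : ∃ x y, w = [x, y] := by
        match w, hlen with
        | [x, y], _ => exact ⟨x, y, rfl⟩
      simp only [List.getD_cons_zero, List.getD_cons_succ] at h10 hlt
      subst h10
      have hv : ∀ q : Fin npts, ((ac h (phi (Fi23.g10 x)) q : Fin npts) : ℕ) = runL [x, 10] q := by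
        intro q
        rw [← act_val h]
        exact congrArg (fun g => ((act h g q : Fin npts) : ℕ))
          (show psi (Fi23.g10 x) = gword g12 [x, 10] by
            rw [psi_gen hlt, psiVal, gword_cons, wone])
      have e4 : ac h (phi (Fi23.g10 x)) (pt 4) = pt 4 := Fin.ext ((hv _).trans h4w)
      rw [← hv, ← ptMap_equiv h hα, e4]
    have hs := (scan_facts (ptMap h α (pt 4)).2).2.1
    rw [scanTwo, hfix] at hs
    simp only [Bool.or_eq_true, Nat.beq_eq] at hs
    rcases hs with e | e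
    · have e0 : ptMap h α (pt 4) = ptMap h α (pt 0) := (Fin.ext e).trans (ptMap_zero h hα).symm
      exact absurd (congrArg Fin.val (ptMap_injective h hα e0)) (by decide)
    · exact Fin.ext e
  obtain ⟨u, rfl⟩ := transitive_cls h (j := pt 4) (hp.trans h4.symm)
  rw [ptMap_equiv h hα, key]

theorem ptMap_one {α : MulAut A} (hα : ∀ u, α (phi u) = phi u) :
    (∀ p, ptMap h α p = p) ∨ ∀ p, ptMap h α p = act h (g12 10) p := by
  have hd := base_data
  simp only [Bool.and_eq_true, List.all_eq_true, Nat.beq_eq] at hd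
  obtain ⟨⟨⟨⟨⟨-, hW⟩, h4⟩, h1⟩, hl1⟩, hl4⟩ := hd
  have hfix : fixAll W1 (ptMap h α (pt 1) : Fin npts) = true := by
    refine (fixAll_iff _ _).2 fun w hw => ?_
    obtain ⟨hev, h1w⟩ := hW w hw
    have e1 : ac h (phi (gword Fi23.g10 w)) (pt 1) = pt 1 :=
      Fin.ext ((ac_phi_val h hev _).trans h1w)
    rw [← ac_phi_val h hev, ← ptMap_equiv h hα, e1]
  have hl : ∀ q : Fin npts, ((act h (g12 10) q : Fin npts) : ℕ) = runL [10] q := fun q => by
    rw [← act_val h, wone]
  have hlu : ∀ (u : Cfsg.Spor.Fi23) (q : Fin npts),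
      act h (g12 10) (ac h (phi u) q) = ac h (phi u) (act h (g12 10) q) := by
    intro u q
    show act h (g12 10) (act h (psi u) q) = act h (psi u) (act h (g12 10) q)
    rw [← Equiv.Perm.mul_apply, ← map_mul, ← psi_commute_l, map_mul, Equiv.Perm.mul_apply]
  have hlz : act h (g12 10) (pt 0) = pt 0 := fix0 h (g12_mem_Hs (by omega))
  have hl2 : ∀ p : Fin npts, cls (lab p) = 2 → act h (g12 10) p = p := by
    intro p hp
    obtain ⟨u, rfl⟩ := transitive_cls h (j := pt 4) (hp.trans h4.symm)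
    rw [hlu, show act h (g12 10) (pt 4) = pt 4 from Fin.ext ((hl _).trans hl4)]
  have hs := (scan_facts (ptMap h α (pt 1)).2).2.2
  rw [scanOne, hfix] at hs
  simp only [Bool.or_eq_true, Nat.beq_eq] at hs
  have hcases : ∀ p : Fin npts, cls (lab p) = 0 ∨ cls (lab p) = 1 ∨ cls (lab p) = 2 := fun p => by
    have := cls_values (lab_lt h p.2)
    omega
  rcases hs with (e | e) | e
  · have e0 : ptMap h α (pt 1) = ptMap h α (pt 0) := (Fin.ext e).trans (ptMap_zero h hα).symm
    exact absurd (congrArg Fin.val (ptMap_injective h hα e0)) (by decide)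
  · refine Or.inl fun p => ?_
    rcases hcases p with c | c | c
    · rw [cls_zero h c, ptMap_zero h hα]
    · obtain ⟨u, rfl⟩ := transitive_cls h (j := pt 1) (c.trans h1.symm)
      rw [ptMap_equiv h hα, show ptMap h α (pt 1) = pt 1 from Fin.ext e]
    · exact ptMap_two h hα c
  · refine Or.inr fun p => ?_
    rcases hcases p with c | c | c
    · rw [cls_zero h c, ptMap_zero h hα, hlz]
    · obtain ⟨u, rfl⟩ := transitive_cls h (j := pt 1) (c.trans h1.symm)
      rw [ptMap_equiv h hα, hlu]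
      refine congrArg _ (Fin.ext ?_)
      rw [hl]
      exact e.trans hl1.symm
    · rw [ptMap_two h hα c, hl2 p c]

theorem eq_one_of_ptMap {α : MulAut A} (hα : ∀ u, α (phi u) = phi u)
    (hp : ∀ p, ptMap h α p = p) : α = 1 := by
  refine MulEquiv.ext fun a => Subtype.ext (act_injective h (Equiv.ext fun p => ?_))
  obtain ⟨b, rfl⟩ := exists_move h p
  have h1 : ∀ c, ac h (α c) (pt 0) = ac h c (pt 0) := fun c => by rw [ptMap_spec h hα, hp]
  show ac h (α a) (ac h b (pt 0)) = ac h a (ac h b (pt 0))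
  nth_rewrite 1 [← h1 b]
  rw [← Equiv.Perm.mul_apply, ← map_mul, ← map_mul, h1, map_mul, Equiv.Perm.mul_apply]

theorem pointwise_cases {α : MulAut A} (hα : ∀ u, α (phi u) = phi u) :
    α = 1 ∨ α = conjA (g12 10) := by
  rcases ptMap_one h hα with hp | hp
  · exact Or.inl (eq_one_of_ptMap h hα hp)
  refine Or.inr ?_
  have hsq : conjA (g12 10) * conjA (g12 10) = 1 := by rw [← map_mul, g12_sq, map_one]
  have hfixu : ∀ u, conjA (g12 10) (phi u) = phi u := fun u => Subtype.ext (by
    rw [conjA_val, phi_val, ← psi_commute_l, mul_inv_cancel_right])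
  have hb : conjA (g12 10) * α = 1 := by
    have hβ : ∀ u, (conjA (g12 10) * α) (phi u) = phi u := fun u => by
      rw [MulAut.mul_apply, hα, hfixu]
    refine eq_one_of_ptMap h hβ fun p => ?_
    obtain ⟨a, rfl⟩ := exists_move h p
    have hl2 : ∀ q, act h (g12 10) (act h (g12 10) q) = q := fun q => by
      rw [← Equiv.Perm.mul_apply, ← map_mul, g12_sq, map_one, Equiv.Perm.one_apply]
    rw [← ptMap_spec h hβ, MulAut.mul_apply]
    show act h ((conjA (g12 10) (α a) : A) : Cfsg.Spor.Fi24) (pt 0) = _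
    rw [conjA_val, ← g12_inv, map_mul, map_mul, Equiv.Perm.mul_apply, Equiv.Perm.mul_apply,
      fix0 h (g12_mem_Hs (by omega))]
    show act h (g12 10) (ac h (α a) (pt 0)) = _
    rw [ptMap_spec h hα, hp, hl2]
  calc α = conjA (g12 10) * conjA (g12 10) * α := by rw [hsq, one_mul]
    _ = conjA (g12 10) := by rw [mul_assoc, hb, mul_one]

theorem conjA_surjective : Function.Surjective conjA := by
  intro α
  obtain ⟨a, ha⟩ := exists_conj_stable h α
  set γ : MulAut A := MulAut.conj a * α with hγ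
  have := Fi23.finite_fi23
  choose r hr using fun u => exists_phi h (ha u)
  let rh : Cfsg.Spor.Fi23 →* Cfsg.Spor.Fi23 :=
    { toFun := r
      map_one' := phi_injective h (by rw [hr, map_one, map_one])
      map_mul' := fun u v => phi_injective h (by rw [hr, map_mul phi, map_mul phi, map_mul, hr, hr]) }
  have hinj : Function.Injective rh := fun u v e => phi_injective h (γ.injective (by
    rw [← hr, ← hr]; exact congrArg phi e))
  let σ : MulAut Cfsg.Spor.Fi23 :=
    MulEquiv.ofBijective rh ⟨hinj, Finite.surjective_of_injective hinj⟩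
  obtain ⟨g, hg⟩ := Fi23Out54.inner σ
  have hδ : ∀ u, (MulAut.conj (phi g⁻¹) * γ) (phi u) = phi u := fun u => by
    rw [MulAut.mul_apply, MulAut.conj_apply, ← hr]
    have e : r u = g * u * g⁻¹ := by
      show σ u = _
      rw [← hg, MulAut.conj_apply]
    rw [e, map_mul, map_mul, map_inv]
    group
  rcases pointwise_cases h hδ with e | e
  · refine ⟨((phi g⁻¹ * a : A) : Cfsg.Spor.Fi24)⁻¹, ?_⟩
    rw [map_inv, conjA_coe, map_mul, inv_eq_iff_mul_eq_one, ← e, mul_assoc]
  · refine ⟨((phi g⁻¹ * a : A) : Cfsg.Spor.Fi24)⁻¹ * g12 10, ?_⟩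
    rw [map_mul, map_inv, conjA_coe, map_mul, inv_mul_eq_iff_eq_mul, ← e, mul_assoc]

theorem conjA_injective : Function.Injective conjA := by
  refine (injective_iff_map_eq_one _).2 fun g hg => ?_
  have hc : ∀ a : A, g * a = a * g := fun a => by
    have e := conjA_val g a
    rw [hg, MulAut.one_apply] at e
    exact (mul_inv_eq_iff_eq_mul.1 e.symm)
  have h0 : act h g (pt 0) = pt 0 := fix_rr h (by
    show act h (psi rr) (act h g (pt 0)) = _
    rw [← Equiv.Perm.mul_apply, ← map_mul, ← phi_val, ← hc, map_mul, Equiv.Perm.mul_apply, phi_val,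
      fix0 h (psi_mem_Hs rr)])
  refine act_injective h (Equiv.ext fun p => ?_)
  obtain ⟨b, rfl⟩ := exists_move h p
  show act h g (act h (b : Cfsg.Spor.Fi24) (pt 0)) = _
  rw [← Equiv.Perm.mul_apply, ← map_mul, hc, map_mul, Equiv.Perm.mul_apply, h0, map_one,
    Equiv.Perm.one_apply]
  rfl

theorem card_out : Nat.card (Cfsg.Out Cfsg.Spor.Fi24') = 2 := by
  have hI : Cfsg.Inn A = (commutator Cfsg.Spor.Fi24).map conjA := by
    ext f
    constructor
    · rintro ⟨a, rfl⟩
      exact ⟨a, a.2, conjA_coe a⟩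
    · rintro ⟨g, hg, rfl⟩
      exact ⟨⟨g, hg⟩, (conjA_coe ⟨g, hg⟩).symm⟩
  have hidx : (commutator Cfsg.Spor.Fi24).index = 2 := by
    have e := (commutator Cfsg.Spor.Fi24).card_mul_index
    rw [card_commutator h, card_Fi24 h] at e
    omega
  show Nat.card (MulAut A ⧸ Cfsg.Inn A) = 2
  rw [← Subgroup.index_eq_card, hI, Subgroup.index_map_eq _ (conjA_surjective h)
    (by rw [(MonoidHom.ker_eq_bot_iff _).2 (conjA_injective h)]; exact bot_le), hidx]

end CfsgLib.Fi24Out17
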