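import Cfsg.Agent.CosetEnum.Fi24Out17.Fix

/-!
An automorphism of Fi24' carries a point stabilizer to a point stabilizer: it can be made to keep
a subgroup of order twenty-three and an element of order eleven normalizing it, and then keeps the
transposition of Fi23 that is a commutator inside the centralizer of the latter.
-/

set_option autoImplicit false
set_option maxRecDepth 100000

namespace CfsgLib.Fi24Out17

open CfsgLib.CosetEnum CfsgLib.CosetEnum.Fi24
open CfsgLib.CosetEnum.Fi24.Tab (npts runL lab cls)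

theorem v_data : (evenW 12 Data.vW && evenW 10 (ugW ++ ugW) &&
    agree12 (Data.vW ++ Data.eW) (Data.eW ++ Data.vW) &&
    agree12 (Data.vW ++ (ugW ++ [10]) ++ Data.vW.reverse ++ (ugW ++ [10]).reverse) (zzW ++ [10]) &&
    Nat.beq (ugW.length % 2) 1 && Nat.beq (zzW.length % 2) 1) = true := by
  decide +kernel

theorem psi_odd {w : List ℕ} (hw : ∀ x ∈ w, x < 10) (ho : w.length % 2 = 1) :
    psi (gword Fi23.g10 w) = gword g12 (w ++ [10]) := by
  rw [psi_gword hw, wapp, wone]
  conv_lhs => rw [← Nat.div_add_mod w.length 2, ho]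
  rw [pow_succ, pow_mul, pow_two, g12_sq, one_pow, one_mul]

theorem comm_three : ∀ x y : Equiv.Perm (Fin 3),
    x * y * x⁻¹ * y⁻¹ * (x * y * x⁻¹ * y⁻¹) = 1 → x * y * x⁻¹ * y⁻¹ = 1 := by
  decide +kernel

/-- the element permuting the three points -/
noncomputable def vv : A :=
  ⟨gword g12 Data.vW, mem_A_iff.2 (parity_even (by
    have h := v_data
    simp only [Bool.and_eq_true] at h
    exact h.1.1.1.1.1))⟩

variable (h : ChecksOK)
include h

theorem vv_comm : Commute vv (phi ee) := by
  have hd := v_data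
  simp only [Bool.and_eq_true] at hd
  have e := gword_eq_of_agree h hd.1.1.1.2
  rw [wapp, wapp, ← psi_even e1_data.2.1] at e
  exact Subtype.ext e

theorem zz_commutator : phi zz = vv * phi ug * vv⁻¹ * (phi ug)⁻¹ := by
  have hd := v_data
  simp only [Bool.and_eq_true, Nat.beq_eq] at hd
  obtain ⟨⟨⟨-, he⟩, hu⟩, hz⟩ := hd
  obtain ⟨-, -, -, -, lz, lu⟩ := lts
  have e := gword_eq_of_agree h he
  rw [wapp, wapp, wapp, wrev g12_inv, wrev g12_inv, ← psi_odd lu hu, ← psi_odd lz hz] at e
  exact Subtype.ext e.symm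

/-- Elements commuting with the element of order eleven permute its three points. -/
noncomputable def triAct : Subgroup.centralizer ({phi ee} : Set A) →* Equiv.Perm (Tri h) where
  toFun a := (ac h (a : A)).subtypePerm fun p => by
    have hc : phi ee * (a : A) = a * phi ee := Subgroup.mem_centralizer_iff.1 a.2 _ rfl
    show ac h (phi ee) (ac h (a : A) p) = ac h (a : A) p ↔ _
    rw [← Equiv.Perm.mul_apply, ← map_mul, hc, map_mul, Equiv.Perm.mul_apply,
      (ac h (a : A)).injective.eq_iff]
  map_one' := by ext p; simp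
  map_mul' a b := by
    refine Equiv.ext fun p => Subtype.ext ?_
    show ac h ((a : A) * (b : A)) (p : Fin npts) = _
    rw [map_mul]
    rfl

/-- An involutory commutator of two elements commuting with the element of order eleven fixes the
base point. -/
theorem commutator_fix {x y : A} (hx : Commute x (phi ee)) (hy : Commute y (phi ee))
    (h2 : x * y * x⁻¹ * y⁻¹ * (x * y * x⁻¹ * y⁻¹) = 1) :
    ac h (x * y * x⁻¹ * y⁻¹) (pt 0) = pt 0 := by
  let xc : Subgroup.centralizer ({phi ee} : Set A) := ⟨x, Subgroup.mem_centralizer_iff.2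
    fun z hz => by rw [Set.mem_singleton_iff.1 hz]; exact hx.symm⟩
  let yc : Subgroup.centralizer ({phi ee} : Set A) := ⟨y, Subgroup.mem_centralizer_iff.2
    fun z hz => by rw [Set.mem_singleton_iff.1 hz]; exact hy.symm⟩
  have hfin : Finite (Tri h) := Subtype.finite
  obtain ⟨e⟩ : Nonempty (Tri h ≃ Fin 3) := ⟨(Finite.equivFin _).trans (finCongr (card_tri h))⟩
  let f := e.permCongrHom.toMonoidHom.comp (triAct h)
  have hsq : (xc * yc * xc⁻¹ * yc⁻¹) * (xc * yc * xc⁻¹ * yc⁻¹) = 1 := Subtype.ext h2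
  have h3 := comm_three (f xc) (f yc) (by
    rw [← map_inv, ← map_inv, ← map_mul, ← map_mul, ← map_mul, ← map_mul, hsq, map_one])
  rw [← map_inv, ← map_inv, ← map_mul, ← map_mul, ← map_mul] at h3
  have h4 : triAct h (xc * yc * xc⁻¹ * yc⁻¹) = 1 := e.permCongrHom.injective (h3.trans (map_one _).symm)
  exact congrArg Subtype.val (Equiv.ext_iff.1 h4 ⟨pt 0, ac_phi_zero h _⟩)

theorem finite_A : Finite A :=
  Nat.finite_of_card_ne_zero (by rw [card_commutator h]; norm_num)

/-- Any automorphism, followed by an inner one, carries the copy of Fi23 into itself. -/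
theorem exists_conj_stable (α : MulAut A) :
    ∃ a : A, ∀ u, ac h ((MulAut.conj a * α) (phi u)) (pt 0) = pt 0 := by
  have := finite_A h
  have h23 : ¬ 23 ^ 2 ∣ Nat.card A := by rw [card_commutator h]; norm_num
  have ho : orderOf (α (phi rr)) = 23 := by
    rw [MulEquiv.orderOf_eq, orderOf_injective phi (phi_injective h), orders.1]
  have ho' : orderOf (phi rr) = 23 := by rw [orderOf_injective phi (phi_injective h), orders.1]
  obtain ⟨a₁, ha₁, ha₁'⟩ := exists_conj_mem (by norm_num) ho' ho h23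
  set β : MulAut A := MulAut.conj a₁ * α with hβ
  have hb : β (phi rr) ∈ Subgroup.zpowers (phi rr) := ha₁
  have hb' : phi rr ∈ Subgroup.zpowers (β (phi rr)) := ha₁'
  set R := Subgroup.zpowers (phi rr)
  set N := Subgroup.normalizer (R : Set A)
  have norm_mem : ∀ x : A, x * phi rr * x⁻¹ ∈ R → x ∈ N := by
    intro x hx
    have hmap : ∀ z ∈ R, x * z * x⁻¹ ∈ R := by
      intro z hz
      obtain ⟨n, rfl⟩ := Subgroup.mem_zpowers_iff.1 hz
      rw [← conj_zpow]
      exact zpow_mem hx n
    refine Subgroup.mem_normalizer_iff.2 fun z => ⟨hmap z, fun hz => ?_⟩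
    have hfin : (R : Set A).Finite := Set.toFinite _
    have hinj : Set.InjOn (fun z => x * z * x⁻¹) (R : Set A) := fun a _ b _ e => by
      simpa using e
    have himg := Set.eq_of_subset_of_ncard_le
      (s := (fun z => x * z * x⁻¹) '' (R : Set A)) (t := (R : Set A))
      (by rintro _ ⟨w, hw, rfl⟩; exact hmap w hw) (by rw [Set.ncard_image_of_injOn hinj]) hfin
    obtain ⟨w, hw, e⟩ : x * z * x⁻¹ ∈ (fun z => x * z * x⁻¹) '' (R : Set A) := himg.symm ▸ hz
    have : w = z := by simpa using e
    exact this ▸ hw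
  have hN : phi ee ∈ N := norm_mem _ (by
    rw [← map_inv, ← map_mul, ← map_mul, ee_conj, map_pow]
    exact pow_mem (Subgroup.mem_zpowers _) 2)
  have hNb : β (phi ee) ∈ N := by
    refine norm_mem _ ?_
    obtain ⟨n, hn⟩ := Subgroup.mem_zpowers_iff.1 hb'
    rw [← hn, ← conj_zpow, ← map_inv, ← map_mul, ← map_mul, ← map_inv, ← map_mul, ← map_mul,
      ee_conj, map_pow, map_pow]
    exact zpow_mem (pow_mem hb 2) n
  have h11 : ¬ 11 ^ 2 ∣ Nat.card N := fun hd => by
    have := hd.trans (Subgroup.card_subgroup_dvd_card N)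
    rw [card_commutator h] at this
    norm_num at this
  have oe : orderOf (phi ee) = 11 := by rw [orderOf_injective phi (phi_injective h), orders.2.1]
  obtain ⟨a₂, ha₂, ha₂'⟩ := exists_conj_mem (p := 11) (by norm_num)
    (x := (⟨phi ee, hN⟩ : N)) (y := (⟨β (phi ee), hNb⟩ : N))
    (by rw [← Subgroup.orderOf_coe]; exact oe)
    (by rw [← Subgroup.orderOf_coe]; show orderOf (β (phi ee)) = 11
        rw [MulEquiv.orderOf_eq, oe]) h11
  set γ : MulAut A := MulAut.conj (a₂ : A) * β with hγ
  refine ⟨(a₂ : A) * a₁, ?_⟩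
  rw [map_mul, mul_assoc, ← hβ, ← hγ]
  have he' : phi ee ∈ Subgroup.zpowers (γ (phi ee)) := by
    obtain ⟨n, hn⟩ := Subgroup.mem_zpowers_iff.1 ha₂'
    exact Subgroup.mem_zpowers_iff.2 ⟨n, congrArg (fun z : N => (z : A)) hn⟩
  have hcomm : ∀ x : A, Commute x (phi ee) → Commute (γ x) (phi ee) := by
    intro x hx
    obtain ⟨n, hn⟩ := Subgroup.mem_zpowers_iff.1 he'
    rw [← hn]
    exact (hx.map γ.toMonoidHom).zpow_right n
  have hr : ac h (γ (phi rr)) (pt 0) = pt 0 := by
    have hm : γ (phi rr) ∈ R := by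
      rw [hγ, MulAut.mul_apply, MulAut.conj_apply]
      exact (Subgroup.mem_normalizer_iff.1 a₂.2 _).1 hb
    exact fix_of_mem_zpowers (ac h) (ac_phi_zero h rr) hm
  have hz : ac h (γ (phi zz)) (pt 0) = pt 0 := by
    have h2 : phi zz * phi zz = 1 := by rw [← map_mul, zz_sq, map_one]
    rw [zz_commutator h] at h2 ⊢
    rw [map_mul γ, map_mul γ, map_mul γ, map_inv γ, map_inv γ]
    refine commutator_fix h (hcomm _ (vv_comm h)) (hcomm _ (ug_comm.map phi)) ?_
    rw [← map_inv γ, ← map_inv γ, ← map_mul, ← map_mul, ← map_mul, ← map_mul, h2, map_one]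
  intro u
  have hle : (⊤ : Subgroup Cfsg.Spor.Fi23) ≤
      (MulAction.stabilizer (Equiv.Perm (Fin npts)) (pt 0)).comap
        (((ac h).comp γ.toMonoidHom).comp phi) := by
    rw [← closure_rz, Subgroup.closure_le]
    rintro _ (rfl | rfl)
    · exact hr
    · exact hz
  exact hle (Subgroup.mem_top u)

end CfsgLib.Fi24Out17
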