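import Cfsg.Agent.CosetEnum.Fi24.Table
import Cfsg.Agent.CosetEnum.Fi24Out17.Data

/-!
What is checked on every point: the points of a suborbit fixed by the short element of order eleven,
and the points fixed by stabilizers of points of the two suborbits.
-/

set_option autoImplicit false

namespace CfsgLib.Fi24Out17

open CfsgLib.CosetEnum.Fi24.Tab (runL lab cls)

/-- words fixing the point 4 -/
def W2 : List (List ℕ) :=
  [[0, 10], [2, 10], [3, 10], [4, 10], [5, 10], [6, 10], [7, 10], [8, 10], [9, 10]]

/-- words fixing the point 1 -/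
def W1 : List (List ℕ) := [[1, 2], [1, 3], [1, 4], [1, 5], [1, 6], [1, 7], [1, 8], [1, 9]]

/-- every word fixes the point -/
noncomputable def fixAll (W : List (List ℕ)) (i : ℕ) : Bool :=
  List.rec (motive := fun _ => Bool) true
    (fun w _ r => @Bool.rec (fun _ => Bool) false r (Nat.beq (runL w i) i)) W

/-- the first check -/
noncomputable def scanE (i : ℕ) : Bool :=
  @Bool.rec (fun _ => Bool) true
    (@Bool.rec (fun _ => Bool) true (Nat.beq i 305527 || Nat.beq i 214)
      (Nat.beq (runL Data.e1W i) i)) (Nat.beq (cls (lab i)) 2)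

/-- the second check -/
noncomputable def scanTwo (i : ℕ) : Bool :=
  @Bool.rec (fun _ => Bool) true (Nat.beq i 0 || Nat.beq i 4) (fixAll W2 i)

/-- the third check -/
noncomputable def scanOne (i : ℕ) : Bool :=
  @Bool.rec (fun _ => Bool) true (Nat.beq i 0 || Nat.beq i 1 || Nat.beq i 2) (fixAll W1 i)

/-- all three checks at a point -/
noncomputable def scanAt (i : ℕ) : Bool := scanE i && scanTwo i && scanOne i

end CfsgLib.Fi24Out17
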